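import Cfsg.Agent.Lib.Helper8.BT2.Weyl
import Mathlib

/-!
# A non-trivial subgroup of `U¹` fixes no chamber opposite to the standard one (helper8)
-/

set_option autoImplicit false
set_option maxRecDepth 100000

namespace Cfsg.Agent.Lib.Helper8.BT2

open Cfsg Cfsg.Lie Cfsg.Agent.Lib.Helper5.Chev Cfsg.Agent.Lib.Helper5.GA Cfsg.Agent.Lib.Helper5.Tw
open Cfsg.Agent.Lib.Helper5.F4W Cfsg.Agent.Lib.Helper8.F4T Cfsg.Agent.Lib.Helper5.BN

section

variable {K : Type*} [Field K]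

/-- `U` is normal in `B` -/
theorem borel_le_normalizer_pos : chevF4.borelSubgroup K
    ≤ Subgroup.normalizer (chevF4.posUnipotent K : Set (GL chevF4.Idx K)) :=
  sup_le Subgroup.le_normalizer (borel_semidirect_all chevF4 hD4).1

theorem borel_conj_pos (b u : GL chevF4.Idx K) (hb : b ∈ chevF4.borelSubgroup K)
    (hu : u ∈ chevF4.posUnipotent K) : b * u * b⁻¹ ∈ chevF4.posUnipotent K :=
  (conj_mem_of_normalizer _ _ _ (borel_le_normalizer_pos hb) hu).1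

/-- an element of `U` conjugated into `B` by the longest element is trivial -/
theorem eq_one_of_n0_conj (u : GL chevF4.Idx K) (hu : u ∈ chevF4.posUnipotent K)
    (h : nW K (wd (DihedralGroup.r 4)) * u * (nW K (wd (DihedralGroup.r 4)))⁻¹
      ∈ chevF4.borelSubgroup K) : u = 1 := by
  have h1 : nW K (wd (DihedralGroup.r 4)) * u * (nW K (wd (DihedralGroup.r 4)))⁻¹
      ∈ chevF4.negUnipotent K := n0_conj_pos u hu
  have h2 : nW K (wd (DihedralGroup.r 4)) * u * (nW K (wd (DihedralGroup.r 4)))⁻¹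
      ∈ chevF4.borelSubgroup K ⊓ chevF4.negUnipotent K := ⟨h, h1⟩
  rw [(borel_inf_neg_all chevF4 hD4).1, Subgroup.mem_bot] at h2
  have : u = (nW K (wd (DihedralGroup.r 4)))⁻¹ *
      (nW K (wd (DihedralGroup.r 4)) * u * (nW K (wd (DihedralGroup.r 4)))⁻¹) *
      nW K (wd (DihedralGroup.r 4)) := by group
  rw [this, h2]
  group

end

theorem r4_inv : (DihedralGroup.r 4 : DihedralGroup 8)⁻¹ = DihedralGroup.r 4 := by decide +kernel

section

variable {K : Type*} [Field K] [Fintype K] [CharP K 2] {m : ℕ}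

/-- a non-trivial subgroup of `U¹` fixes no chamber in the big cell -/
theorem not_fix_big (hK : Fintype.card K = 2 ^ (2 * m + 1))
    (r : ↥(twistedF4 K (2 ^ m))) (hr : (r : GL chevF4.Idx K) ∈ chevF4.posUnipotent K)
    (hr1 : r ≠ 1) (g : ↥(twistedF4 K (2 ^ m)))
    (hg : g ∈ C (bnF4 hK) (psi hK (DihedralGroup.r 4))) :
    g⁻¹ * r * g ∉ (bnF4 hK).B := by
  intro hfix
  have hg' := inv_mem_C (bnF4 hK) hg
  rw [← map_inv, r4_inv, psi_apply, C_proj, mem_D] at hg'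
  obtain ⟨b, hb, b', hb', e⟩ := hg'
  have e1 : g = b'⁻¹ * ((nN hK (DihedralGroup.r 4) : ↥(bnF4 hK).N) : ↥(twistedF4 K (2 ^ m)))⁻¹
      * b⁻¹ := by
    rw [← inv_inv g, e]
    group
  -- `n₀ (b' r b'⁻¹) n₀⁻¹ ∈ B`
  have h2 : ((nN hK (DihedralGroup.r 4) : ↥(bnF4 hK).N) : ↥(twistedF4 K (2 ^ m))) *
      (b' * r * b'⁻¹) *
      ((nN hK (DihedralGroup.r 4) : ↥(bnF4 hK).N) : ↥(twistedF4 K (2 ^ m)))⁻¹ ∈ (bnF4 hK).B := by
    have : ((nN hK (DihedralGroup.r 4) : ↥(bnF4 hK).N) : ↥(twistedF4 K (2 ^ m))) *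
        (b' * r * b'⁻¹) *
        ((nN hK (DihedralGroup.r 4) : ↥(bnF4 hK).N) : ↥(twistedF4 K (2 ^ m)))⁻¹
        = b⁻¹ * (g⁻¹ * r * g) * b := by
      rw [e1]
      group
    rw [this]
    exact Subgroup.mul_mem _ (Subgroup.mul_mem _ (Subgroup.inv_mem _ hb) hfix) hb
  rw [mem_bnB] at h2 hb'
  have hy : (b' : GL chevF4.Idx K) * (r : GL chevF4.Idx K) * (b' : GL chevF4.Idx K)⁻¹
      ∈ chevF4.posUnipotent K := borel_conj_pos _ _ hb' hr
  have h3 := eq_one_of_n0_conj _ hy h2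
  apply hr1
  apply Subtype.ext
  have : (r : GL chevF4.Idx K) = (b' : GL chevF4.Idx K)⁻¹ *
      ((b' : GL chevF4.Idx K) * (r : GL chevF4.Idx K) * (b' : GL chevF4.Idx K)⁻¹) *
      (b' : GL chevF4.Idx K) := by group
  rw [this, h3]
  simp

/-- the hypothesis of the fixed point count: a chamber fixed by a non-trivial subgroup of `U¹`
lies in a cell with an ascent -/
theorem asc_of_fix (hK : Fintype.card K = 2 ^ (2 * m + 1)) (R : Subgroup ↥(twistedF4 K (2 ^ m)))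
    (hRU : ∀ r ∈ R, (r : GL chevF4.Idx K) ∈ chevF4.posUnipotent K) (hR1 : R ≠ ⊥)
    (g : ↥(twistedF4 K (2 ^ m))) (w : W (bnF4 hK)) (hg : g ∈ C (bnF4 hK) w)
    (hfix : ∀ r ∈ R, g⁻¹ * r * g ∈ (bnF4 hK).B) :
    len (bnF4 hK) w < len (bnF4 hK) (w * psi hK (DihedralGroup.sr 0)) ∨
      len (bnF4 hK) w < len (bnF4 hK) (w * psi hK (DihedralGroup.sr 1)) := by
  obtain ⟨x, rfl⟩ := psi_surjective hK w
  by_cases hx : x = DihedralGroup.r 4
  · exfalso
    subst hx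
    obtain ⟨r, hr1⟩ := (Subgroup.ne_bot_iff_exists_ne_one).1 hR1
    exact not_fix_big hK r.1 (hRU _ r.2) (fun h => hr1 (Subtype.ext h)) g hg (hfix _ r.2)
  · exact exists_asc_F4 hK x hx

end

end Cfsg.Agent.Lib.Helper8.BT2
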