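import Cfsg.Agent.Lib.Helper5.BN
import Mathlib

/-!
# The length function of a (B,N)-pair whose Weyl group is dihedral of order 16 (helper8)

If `ψ : DihedralGroup 8 →* W` is a bijection onto the Weyl group of a (B,N)-pair whose
distinguished generators are `ψ (sr 0)` and `ψ (sr 1)`, the length of `ψ x` is the explicit
function `dlen x`, and every element other than `ψ (r 4)` has an ascent on the right.
-/

set_option autoImplicit false

namespace Cfsg.Agent.Lib.Helper8.BT2

open Cfsg Cfsg.Agent.Lib.Helper5.BN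

/-- the length of an element of the dihedral group of order 16 in the generators `sr 0`, `sr 1` -/
def dlen : DihedralGroup 8 → ℕ
  | .r i => if i.val ≤ 4 then 2 * i.val else 16 - 2 * i.val
  | .sr i => if i.val = 0 then 1 else if i.val ≤ 4 then 2 * i.val - 1 else 17 - 2 * i.val

/-- `k` copies of the word `L` -/
def drep (k : ℕ) (L : List (DihedralGroup 8)) : List (DihedralGroup 8) :=
  (List.replicate k L).flatten

/-- a shortest word for an element of the dihedral group -/
def dword : DihedralGroup 8 → List (DihedralGroup 8)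
  | .r i => if i.val ≤ 4 then drep i.val [.sr 0, .sr 1] else drep (8 - i.val) [.sr 1, .sr 0]
  | .sr i => if i.val = 0 then [.sr 0]
      else if i.val ≤ 4 then .sr 1 :: drep (i.val - 1) [.sr 0, .sr 1]
      else .sr 0 :: drep (8 - i.val) [.sr 1, .sr 0]

theorem dword_spec : ∀ x : DihedralGroup 8, (dword x).prod = x ∧ (dword x).length = dlen x ∧
    ∀ s ∈ dword x, s = DihedralGroup.sr 0 ∨ s = DihedralGroup.sr 1 := by
  decide +kernel

theorem dlen_one : dlen 1 = 0 := by decide +kernel

theorem dlen_mul_le : ∀ s : DihedralGroup 8, (s = DihedralGroup.sr 0 ∨ s = DihedralGroup.sr 1) →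
    ∀ y : DihedralGroup 8, dlen y ≤ dlen (s⁻¹ * y) + 1 := by
  decide +kernel

theorem dlen_asc : ∀ x : DihedralGroup 8, x ≠ DihedralGroup.r 4 →
    dlen x < dlen (x * DihedralGroup.sr 0) ∨ dlen x < dlen (x * DihedralGroup.sr 1) := by
  decide +kernel

section

variable {G : Type*} [Group G] (P : BNPair G) (ψ : DihedralGroup 8 →* W P)

theorem len_le_dlen (h0 : ψ (DihedralGroup.sr 0) ∈ Sbar P) (h1 : ψ (DihedralGroup.sr 1) ∈ Sbar P)
    (x : DihedralGroup 8) : len P (ψ x) ≤ dlen x := by
  obtain ⟨hp, hl, hs⟩ := dword_spec x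
  have hw : IsWord P ((dword x).map ψ) := by
    intro σ hσ
    obtain ⟨s, hs', rfl⟩ := List.mem_map.mp hσ
    rcases hs s hs' with rfl | rfl
    · exact h0
    · exact h1
  have := len_le_of_word P hw
  rw [List.prod_hom, hp, List.length_map, hl] at this
  exact this

theorem dlen_le_word (hinj : Function.Injective ψ)
    (hS : ∀ σ ∈ Sbar P, σ = ψ (DihedralGroup.sr 0) ∨ σ = ψ (DihedralGroup.sr 1)) :
    ∀ (L : List (W P)), IsWord P L → ∀ x : DihedralGroup 8, L.prod = ψ x → dlen x ≤ L.length := by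
  intro L
  induction L with
  | nil =>
    intro _ x hx
    have : x = 1 := by
      apply hinj
      rw [map_one, ← hx]
      rfl
    rw [this, dlen_one]
    exact Nat.zero_le _
  | cons σ L ih =>
    intro hL x hx
    rw [isWord_cons] at hL
    obtain ⟨s, hs, hσ⟩ : ∃ s : DihedralGroup 8,
        (s = DihedralGroup.sr 0 ∨ s = DihedralGroup.sr 1) ∧ σ = ψ s := by
      rcases hS σ hL.1 with h | h
      · exact ⟨_, Or.inl rfl, h⟩
      · exact ⟨_, Or.inr rfl, h⟩
    have hx' : L.prod = ψ (s⁻¹ * x) := by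
      rw [map_mul, map_inv, ← hx, List.prod_cons, hσ, inv_mul_cancel_left]
    have h1 := ih hL.2 _ hx'
    have h2 := dlen_mul_le s hs x
    rw [List.length_cons]
    omega

theorem len_eq_dlen (hinj : Function.Injective ψ)
    (h0 : ψ (DihedralGroup.sr 0) ∈ Sbar P) (h1 : ψ (DihedralGroup.sr 1) ∈ Sbar P)
    (hS : ∀ σ ∈ Sbar P, σ = ψ (DihedralGroup.sr 0) ∨ σ = ψ (DihedralGroup.sr 1))
    (x : DihedralGroup 8) : len P (ψ x) = dlen x := by
  apply le_antisymm (len_le_dlen P ψ h0 h1 x)
  obtain ⟨L, hL1, hL2, hL3⟩ := exists_reduced P (ψ x)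
  rw [← hL3]
  exact dlen_le_word P ψ hinj hS L hL1 x hL2

/-- every element other than the longest one has an ascent on the right -/
theorem exists_asc (hinj : Function.Injective ψ)
    (h0 : ψ (DihedralGroup.sr 0) ∈ Sbar P) (h1 : ψ (DihedralGroup.sr 1) ∈ Sbar P)
    (hS : ∀ σ ∈ Sbar P, σ = ψ (DihedralGroup.sr 0) ∨ σ = ψ (DihedralGroup.sr 1))
    (x : DihedralGroup 8) (hx : x ≠ DihedralGroup.r 4) :
    len P (ψ x) < len P (ψ x * ψ (DihedralGroup.sr 0)) ∨
      len P (ψ x) < len P (ψ x * ψ (DihedralGroup.sr 1)) := by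
  rw [← map_mul, ← map_mul, len_eq_dlen P ψ hinj h0 h1 hS, len_eq_dlen P ψ hinj h0 h1 hS,
    len_eq_dlen P ψ hinj h0 h1 hS]
  exact dlen_asc x hx

end

end Cfsg.Agent.Lib.Helper8.BT2
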