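import Cfsg.Agent.Lib.Helper5.BN
import Mathlib

/-!
# Fixed points of a subgroup of `B` on the cosets of the parabolic subgroups, rank two (helper8)

For a (B,N)-pair with two distinguished generators in a finite group `G` and a subgroup `R ≤ B`
fixing no chamber (coset of `B`) in a double coset `B w B` with `w` maximal (no ascent), the
chambers and vertices fixed by `R` form a tree: every fixed chamber other than `B` corresponds to
its vertex far from `B`.  Hence
`|Fix_R(G/P₁)| + |Fix_R(G/P₂)| = |Fix_R(G/B)| + 1`,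
and an element of prime order `r` normalising `R` lies in a conjugate of `B`, `P₁` or `P₂`.
-/

set_option autoImplicit false

namespace Cfsg.Agent.Lib.Helper8.BT2

open Cfsg Cfsg.Agent.Lib.Helper5.BN

section basic

variable {G : Type*} [Group G] (P : BNPair G)

theorem len_inv (w : W P) : len P w⁻¹ = len P w := by
  have key : ∀ w : W P, len P w⁻¹ ≤ len P w := by
    intro w
    obtain ⟨L, h1, h2, h3⟩ := exists_reduced P w
    have hrev : IsWord P L.reverse := fun σ hσ => h1 σ (List.mem_reverse.mp hσ)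
    have := len_le_of_word P hrev
    rw [← word_prod_inv P h1, h2, List.length_reverse, h3] at this
    exact this
  apply le_antisymm (key w)
  have := key w⁻¹
  rwa [inv_inv] at this

/-- the multiplication rule on the right -/
theorem L2_right {w σ : W P} (hσ : σ ∈ Sbar P) (hle : len P w ≤ len P (w * σ)) {x y : G}
    (hx : x ∈ C P w) (hy : y ∈ C P σ) : x * y ∈ C P (w * σ) := by
  have hx' := inv_mem_C P hx
  have hy' := inv_mem_C P hy
  rw [Sbar_inv P hσ] at hy'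
  have e : σ * w⁻¹ = (w * σ)⁻¹ := by rw [mul_inv_rev, Sbar_inv P hσ]
  have hle' : len P w⁻¹ ≤ len P (σ * w⁻¹) := by
    rw [e, len_inv, len_inv]
    exact hle
  have h1 := L2 P hσ hle' hy' hx'
  have h2 := inv_mem_C P h1
  rw [e, inv_inv, mul_inv_rev, inv_inv, inv_inv] at h2
  exact h2

theorem len_mul_right_ne {w σ : W P} (hσ : σ ∈ Sbar P) : len P (w * σ) ≠ len P w := by
  have h := len_mul_ne P (w := w⁻¹) hσ
  have e : σ * w⁻¹ = (w * σ)⁻¹ := by rw [mul_inv_rev, Sbar_inv P hσ]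
  rw [e, len_inv, len_inv] at h
  exact h

/-- a non-trivial element of the Weyl group has a descent -/
theorem exists_desc {w : W P} (hw : w ≠ 1) : ∃ σ ∈ Sbar P, len P (w * σ) < len P w := by
  obtain ⟨L, h1, h2, h3⟩ := exists_reduced P w
  rcases List.eq_nil_or_concat L with rfl | ⟨L', σ, rfl⟩
  · exact absurd h2.symm hw
  · rw [List.concat_eq_append] at h1 h2 h3
    have hσ : σ ∈ Sbar P := h1 σ (by simp)
    have hL' : IsWord P L' := fun τ hτ => h1 τ (by simp [hτ])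
    refine ⟨σ, hσ, ?_⟩
    have e : w * σ = L'.prod := by
      rw [← h2, List.prod_append, List.prod_singleton, mul_Sbar_cancel P hσ]
    rw [e]
    have := len_le_of_word P hL'
    rw [List.length_append, List.length_singleton] at h3
    omega

/-- every element lies in a double coset -/
theorem exists_C (g : G) : ∃ w : W P, g ∈ C P w := by
  obtain ⟨n, hn⟩ := exists_N_mem_D P g
  exact ⟨proj P n, by rw [C_proj]; exact hn⟩

theorem C_unique {w w' : W P} {g : G} (h1 : g ∈ C P w) (h2 : g ∈ C P w') : w = w' :=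
  bruhat P (C_inj_of_inter P h1 h2)

end basic

section count

variable {G : Type*} [Group G] (P : BNPair G)

/-- the fixed chambers with an ascent at `σ` -/
def ascSet (R : Subgroup G) (σ : W P) : Set (G ⧸ P.B) :=
  {c | (∀ r ∈ R, r • c = c) ∧ ∃ (g : G) (w : W P), (g : G ⧸ P.B) = c ∧ g ∈ C P w ∧
    len P w < len P (w * σ)}

/-- the fixed cosets -/
def fixSet (R Q : Subgroup G) : Set (G ⧸ Q) := {v | ∀ r ∈ R, r • v = v}

theorem smul_mk (Q : Subgroup G) (r g : G) : r • (g : G ⧸ Q) = ((r * g : G) : G ⧸ Q) := rfl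

theorem conj_mem_of_fixed (Q R : Subgroup G) (g : G) (h : (g : G ⧸ Q) ∈ fixSet R Q) :
    ∀ r ∈ R, g⁻¹ * r * g ∈ Q := by
  intro r hr
  have h1 := h r⁻¹ (R.inv_mem hr)
  rw [smul_mk, QuotientGroup.eq] at h1
  have e : (r⁻¹ * g)⁻¹ * g = g⁻¹ * r * g := by group
  rwa [e] at h1

theorem fixed_of_conj_mem (Q R : Subgroup G) (g : G) (h : ∀ r ∈ R, g⁻¹ * r * g ∈ Q) :
    (g : G ⧸ Q) ∈ fixSet R Q := by
  intro r hr
  rw [smul_mk, QuotientGroup.eq]
  have e : (r * g)⁻¹ * g = g⁻¹ * r⁻¹ * g := by group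
  rw [e]
  exact h _ (R.inv_mem hr)

/-- a representative in an ascending cell of a fixed vertex gives a fixed chamber -/
theorem asc_fixed {σ : W P} (hσ : σ ∈ Sbar P) (Q : Subgroup G)
    (hQ : ∀ g, g ∈ Q ↔ g ∈ P.B ∨ g ∈ C P σ) (R : Subgroup G) (hRB : R ≤ P.B)
    (g : G) (w : W P) (hg : g ∈ C P w) (hasc : len P w < len P (w * σ))
    (hfix : (g : G ⧸ Q) ∈ fixSet R Q) : (g : G ⧸ P.B) ∈ ascSet P R σ := by
  refine ⟨?_, g, w, rfl, hg, hasc⟩
  apply fixed_of_conj_mem
  intro r hr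
  have h1 := conj_mem_of_fixed Q R g hfix r hr
  rcases (hQ _).1 h1 with h2 | h2
  · exact h2
  · exfalso
    have h3 := L2_right P hσ hasc.le hg h2
    have e : g * (g⁻¹ * r * g) = r * g := by group
    rw [e] at h3
    have h4 : r * g ∈ C P w := B_mul_mem_C P (hRB hr) hg
    have h5 := C_unique P h4 h3
    have : σ = 1 := by
      have : w * 1 = w * σ := by rw [mul_one]; exact h5
      exact (mul_left_cancel this).symm
    exact Sbar_ne_one P hσ this

/-- the fixed chambers with an ascent at `σ` correspond to the fixed vertices of type `σ` -/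
theorem ncard_ascSet {σ : W P} (hσ : σ ∈ Sbar P) (Q : Subgroup G)
    (hQ : ∀ g, g ∈ Q ↔ g ∈ P.B ∨ g ∈ C P σ) (R : Subgroup G) (hRB : R ≤ P.B) :
    (ascSet P R σ).ncard = (fixSet R Q).ncard := by
  have hBQ : P.B ≤ Q := fun g hg => (hQ g).2 (Or.inl hg)
  apply Set.ncard_congr (fun c _ => Subgroup.quotientMapOfLE hBQ c)
  · rintro c ⟨hc, g, w, rfl, -, -⟩
    rw [Subgroup.quotientMapOfLE_apply_mk]
    apply fixed_of_conj_mem
    intro r hr
    exact hBQ (conj_mem_of_fixed P.B R g hc r hr)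
  · rintro c c' ⟨-, g, w, rfl, hg, hasc⟩ ⟨-, g', w', rfl, hg', hasc'⟩ h
    rw [Subgroup.quotientMapOfLE_apply_mk, Subgroup.quotientMapOfLE_apply_mk,
      QuotientGroup.eq] at h
    rw [QuotientGroup.eq]
    rcases (hQ _).1 h with h2 | h2
    · exact h2
    · exfalso
      have h3 := L2_right P hσ hasc.le hg h2
      have e : g * (g⁻¹ * g') = g' := by group
      rw [e] at h3
      have h5 := C_unique P hg' h3
      rw [h5, mul_Sbar_cancel P hσ] at hasc'
      omega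
  · intro v hv
    obtain ⟨g, rfl⟩ := QuotientGroup.mk_surjective v
    obtain ⟨w, hw⟩ := exists_C P g
    by_cases hasc : len P w < len P (w * σ)
    · exact ⟨(g : G ⧸ P.B), asc_fixed P hσ Q hQ R hRB g w hw hasc hv, rfl⟩
    · have hlt : len P (w * σ) < len P w := by
        have := len_mul_right_ne P (w := w) hσ
        omega
      have hw' : g ∈ C P (w * σ * σ) := by rw [mul_Sbar_cancel P hσ]; exact hw
      obtain ⟨g₁, hg₁, g₂, hg₂, rfl⟩ := C_mul_decomp P hw'
      have hasc' : len P (w * σ) < len P (w * σ * σ) := by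
        rw [mul_Sbar_cancel P hσ]; exact hlt
      have heq : ((g₁ * g₂ : G) : G ⧸ Q) = (g₁ : G ⧸ Q) := by
        rw [QuotientGroup.eq]
        have e : (g₁ * g₂)⁻¹ * g₁ = g₂⁻¹ := by group
        rw [e]
        exact Q.inv_mem ((hQ _).2 (Or.inr hg₂))
      rw [heq] at hv ⊢
      exact ⟨(g₁ : G ⧸ P.B), asc_fixed P hσ Q hQ R hRB g₁ _ hg₁ hasc' hv, rfl⟩

/-- the Euler characteristic of the fixed structure is 1 -/
theorem euler [Finite G] {σ₁ σ₂ : W P} (hσ₁ : σ₁ ∈ Sbar P) (hσ₂ : σ₂ ∈ Sbar P)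
    (hS : ∀ σ ∈ Sbar P, σ = σ₁ ∨ σ = σ₂) (Q₁ Q₂ : Subgroup G)
    (hQ₁ : ∀ g, g ∈ Q₁ ↔ g ∈ P.B ∨ g ∈ C P σ₁) (hQ₂ : ∀ g, g ∈ Q₂ ↔ g ∈ P.B ∨ g ∈ C P σ₂)
    (R : Subgroup G) (hRB : R ≤ P.B)
    (hR : ∀ (g : G) (w : W P), g ∈ C P w → (∀ r ∈ R, g⁻¹ * r * g ∈ P.B) →
      len P w < len P (w * σ₁) ∨ len P w < len P (w * σ₂)) :
    (fixSet R Q₁).ncard + (fixSet R Q₂).ncard = (fixSet R P.B).ncard + 1 := by
  rw [← ncard_ascSet P hσ₁ Q₁ hQ₁ R hRB, ← ncard_ascSet P hσ₂ Q₂ hQ₂ R hRB,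
    ← Set.ncard_union_add_ncard_inter]
  have hone : ∀ σ ∈ Sbar P, ((1 : G) : G ⧸ P.B) ∈ ascSet P R σ := by
    intro σ hσ
    refine ⟨?_, 1, 1, rfl, ?_, ?_⟩
    · apply fixed_of_conj_mem
      intro r hr
      have e : (1 : G)⁻¹ * r * 1 = r := by group
      rw [e]
      exact hRB hr
    · rw [C_one]
      exact P.B.one_mem
    · rw [len_one, one_mul, len_Sbar P hσ]
      exact Nat.one_pos
  have hU : ascSet P R σ₁ ∪ ascSet P R σ₂ = fixSet R P.B := by
    ext c
    constructor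
    · rintro (h | h)
      · exact h.1
      · exact h.1
    · intro hc
      obtain ⟨g, rfl⟩ := QuotientGroup.mk_surjective c
      obtain ⟨w, hw⟩ := exists_C P g
      rcases hR g w hw (conj_mem_of_fixed P.B R g hc) with h | h
      · exact Or.inl ⟨hc, g, w, rfl, hw, h⟩
      · exact Or.inr ⟨hc, g, w, rfl, hw, h⟩
  have hI : ascSet P R σ₁ ∩ ascSet P R σ₂ = {((1 : G) : G ⧸ P.B)} := by
    ext c
    constructor
    · rintro ⟨⟨-, g, w, rfl, hg, hasc⟩, ⟨-, g', w', h', hg', hasc'⟩⟩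
      rw [QuotientGroup.eq] at h'
      have hg'' : g ∈ C P w' := by
        have e : g = g' * (g'⁻¹ * g) := by group
        rw [e]
        exact mul_B_mem_C P h' hg'
      have hww := C_unique P hg hg''
      subst hww
      have hw1 : w = 1 := by
        by_contra hne
        obtain ⟨σ, hσ, hd⟩ := exists_desc P hne
        rcases hS σ hσ with rfl | rfl <;> omega
      subst hw1
      rw [C_one] at hg
      rw [Set.mem_singleton_iff, QuotientGroup.eq]
      simpa using hg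
    · rintro h
      rw [Set.mem_singleton_iff] at h
      rw [h]
      exact ⟨hone σ₁ hσ₁, hone σ₂ hσ₂⟩
  rw [hU, hI, Set.ncard_singleton]

/-- an element of prime order `r` normalising `R` and acting without fixed points on the cosets
of `Q`: the number of cosets fixed by `R` is divisible by `r` -/
theorem dvd_ncard_fixSet [Finite G] (Q R : Subgroup G) (b : G) (r : ℕ) [Fact r.Prime] (hb : orderOf b = r)
    (hbR : b ∈ Subgroup.normalizer (R : Set G)) (hfree : ∀ g : G, g⁻¹ * b * g ∉ Q) :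
    r ∣ (fixSet R Q).ncard := by
  classical
  have hstab : ∀ y ∈ Subgroup.normalizer (R : Set G), ∀ v ∈ fixSet R Q, y • v ∈ fixSet R Q := by
    intro y hy v hv x hx
    have hx' : y⁻¹ * x * y ∈ R := (Subgroup.mem_set_normalizer_iff''.1 hy x).1 hx
    calc x • y • v = (x * y) • v := (mul_smul _ _ _).symm
      _ = (y * (y⁻¹ * x * y)) • v := by congr 1; group
      _ = y • (y⁻¹ * x * y) • v := mul_smul _ _ _
      _ = y • v := by rw [hv _ hx']
  let e : Equiv.Perm (fixSet R Q) :=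
    { toFun := fun v => ⟨b • v.1, hstab b hbR v.1 v.2⟩
      invFun := fun v => ⟨b⁻¹ • v.1, hstab b⁻¹ (Subgroup.inv_mem _ hbR) v.1 v.2⟩
      left_inv := fun v => Subtype.ext (inv_smul_smul b v.1)
      right_inv := fun v => Subtype.ext (smul_inv_smul b v.1) }
  have hpow : ∀ k : ℕ, ∀ v : fixSet R Q, ((e ^ k) v : G ⧸ Q) = b ^ k • (v : G ⧸ Q) := by
    intro k
    induction k with
    | zero => intro v; simp
    | succ k ih =>
      intro v
      rw [pow_succ', Equiv.Perm.mul_apply, pow_succ', mul_smul, ← ih v]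
      rfl
  have he : e ^ r ^ 1 = 1 := by
    ext v
    rw [pow_one, hpow, ← hb, pow_orderOf_eq_one, one_smul]
    rfl
  have : Fintype (fixSet R Q) := Fintype.ofFinite _
  by_contra hnd
  have hnd' : ¬ r ∣ Fintype.card (fixSet R Q) := by
    rw [← Nat.card_eq_fintype_card, Nat.card_coe_set_eq]
    exact hnd
  obtain ⟨v, hv⟩ := Equiv.Perm.exists_fixed_point_of_prime hnd' he
  obtain ⟨g, hg⟩ := QuotientGroup.mk_surjective v.1
  have h1 : b • (v : G ⧸ Q) = v := congrArg Subtype.val hv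
  rw [← hg, smul_mk, QuotientGroup.eq] at h1
  have h2 : ((b * g)⁻¹ * g)⁻¹ ∈ Q := Q.inv_mem h1
  have e2 : ((b * g)⁻¹ * g)⁻¹ = g⁻¹ * b * g := by group
  rw [e2] at h2
  exact hfree g h2

/-- an element of prime order `r` normalising `R` lies in a conjugate of `B`, `P₁` or `P₂` -/
theorem exists_conj_mem [Finite G] {σ₁ σ₂ : W P} (hσ₁ : σ₁ ∈ Sbar P) (hσ₂ : σ₂ ∈ Sbar P)
    (hS : ∀ σ ∈ Sbar P, σ = σ₁ ∨ σ = σ₂) (Q₁ Q₂ : Subgroup G)
    (hQ₁ : ∀ g, g ∈ Q₁ ↔ g ∈ P.B ∨ g ∈ C P σ₁) (hQ₂ : ∀ g, g ∈ Q₂ ↔ g ∈ P.B ∨ g ∈ C P σ₂)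
    (R : Subgroup G) (hRB : R ≤ P.B)
    (hR : ∀ (g : G) (w : W P), g ∈ C P w → (∀ r ∈ R, g⁻¹ * r * g ∈ P.B) →
      len P w < len P (w * σ₁) ∨ len P w < len P (w * σ₂))
    (b : G) (r : ℕ) [Fact r.Prime] (hb : orderOf b = r)
    (hbR : b ∈ Subgroup.normalizer (R : Set G)) :
    ∃ g : G, g⁻¹ * b * g ∈ Q₁ ∨ g⁻¹ * b * g ∈ Q₂ := by
  by_contra hcon
  push Not at hcon
  have hBQ : P.B ≤ Q₁ := fun g hg => (hQ₁ g).2 (Or.inl hg)
  have h1 := dvd_ncard_fixSet Q₁ R b r hb hbR (fun g => (hcon g).1)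
  have h2 := dvd_ncard_fixSet Q₂ R b r hb hbR (fun g => (hcon g).2)
  have h3 := dvd_ncard_fixSet P.B R b r hb hbR (fun g hg => (hcon g).1 (hBQ hg))
  have h4 := euler P hσ₁ hσ₂ hS Q₁ Q₂ hQ₁ hQ₂ R hRB hR
  have h5 : r ∣ (fixSet R P.B).ncard + 1 := by
    rw [← h4]
    exact dvd_add h1 h2
  have h6 : r ∣ 1 := (Nat.dvd_add_right h3).1 h5
  exact (Fact.out : r.Prime).one_lt.ne' (Nat.dvd_one.1 h6)

end count

end Cfsg.Agent.Lib.Helper8.BT2
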