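import Cfsg.Agent.Lib.Helper8.BT2.Weyl
import Cfsg.Agent.Lib.Helper8.F4T.Order
import Mathlib

/-!
# The orders of the two minimal parabolic subgroups of the large Ree group (helper8)
-/

set_option autoImplicit false
set_option maxRecDepth 100000

namespace Cfsg.Agent.Lib.Helper8.BT2

open Cfsg Cfsg.Lie Cfsg.Agent.Lib.Helper5.Chev Cfsg.Agent.Lib.Helper5.GA Cfsg.Agent.Lib.Helper5.Tw
open Cfsg.Agent.Lib.Helper5.F4W Cfsg.Agent.Lib.Helper8.F4T Cfsg.Agent.Lib.Helper5.BN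

section abstract

variable {G : Type*} [Group G] (P : BNPair G)

theorem zpow_of_sq {M : Type*} [Group M] {σ : M} (h : σ * σ = 1) (k : ℤ) :
    σ ^ k = 1 ∨ σ ^ k = σ := by
  have h2 : σ ^ (2 : ℤ) = 1 := by
    rw [zpow_ofNat, pow_two]
    exact h
  rcases Int.even_or_odd' k with ⟨j, hj | hj⟩
  · left
    rw [hj, zpow_mul, h2, one_zpow]
  · right
    rw [hj, zpow_add, zpow_mul, h2, one_zpow, one_mul, zpow_one]

/-- a minimal parabolic subgroup is the union of two double cosets -/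
theorem mem_parabolic_singleton {s : G} (hs : s ∈ P.S) (n : P.N) (hn : (n : G) = s) (g : G) :
    g ∈ P.parabolic {s} ↔ g ∈ P.B ∨ g ∈ C P (proj P n) := by
  have hσ : proj P n ∈ Sbar P := ⟨n, by rw [hn]; exact hs, rfl⟩
  rw [mem_parabolic_iff_W P (Set.singleton_subset_iff.2 hs)]
  constructor
  · rintro ⟨w, hw, hg⟩
    have hle : bar P {s} ⊆ {proj P n} := by
      rintro σ ⟨n', hn', rfl⟩
      rw [Set.mem_singleton_iff] at hn' ⊢
      congr 1
      exact Subtype.ext (hn'.trans hn.symm)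
    have hw' := Subgroup.closure_mono hle hw
    rw [Subgroup.mem_closure_singleton] at hw'
    obtain ⟨k, rfl⟩ := hw'
    rcases zpow_of_sq (Sbar_sq P hσ) k with h | h
    · left
      rw [h, C_one] at hg
      exact hg
    · right
      rw [h] at hg
      exact hg
  · rintro (h | h)
    · exact ⟨1, Subgroup.one_mem _, by rw [C_one]; exact h⟩
    · exact ⟨_, Subgroup.subset_closure ⟨n, hn, rfl⟩, h⟩

end abstract

section

variable {K : Type*} [Field K] [Fintype K] [CharP K 2] {m : ℕ}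

omit [Fintype K] [CharP K 2] in
theorem pos_le_borel' : chevF4.posUnipotent K ≤ chevF4.borelSubgroup K := le_sup_left

/-- a cell lies in the corresponding double coset -/
theorem cellMap_mem_C (hK : Fintype.card K = 2 ^ (2 * m + 1)) (x : DihedralGroup 8)
    (c : Cell hK x) : cellMap hK ⟨x, c⟩ ∈ C (bnF4 hK) (psi hK x) := by
  obtain ⟨u, h, u'⟩ := c
  rw [psi_apply, C_proj, mem_D]
  refine ⟨⟨u, u.2.2⟩, (mem_bnB hK _).2 (pos_le_borel' u.2.1),
    ⟨(h : GL chevF4.Idx K) * (u' : GL chevF4.Idx K),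
      Subgroup.mul_mem _ h.2.2 (Uw_le_twisted hK x u'.2)⟩,
    (mem_bnB hK _).2 (Subgroup.mul_mem _ (diag_le_borel h.2.1)
      (pos_le_borel' (Uw_le_pos hK x u'.2))), ?_⟩
  apply Subtype.ext
  show (u : GL chevF4.Idx K) * nW K (wd x) * (h : GL chevF4.Idx K) * (u' : GL chevF4.Idx K)
    = (u : GL chevF4.Idx K) * nW K (wd x) * ((h : GL chevF4.Idx K) * (u' : GL chevF4.Idx K))
  rw [mul_assoc]

theorem finite_Cell (hK : Fintype.card K = 2 ^ (2 * m + 1)) (x : DihedralGroup 8) :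
    Finite (Cell hK x) := by
  have hU := card_pos_twisted hK
  have hH := card_diag_twisted hK
  have h2 : 2 ^ 1 ≤ 2 ^ (2 * m + 1) := Nat.pow_le_pow_right (by norm_num) (by omega)
  have : Finite ↥(chevF4.posUnipotent K ⊓ twistedF4 K (2 ^ m)) :=
    Nat.finite_of_card_ne_zero (by rw [hU]; positivity)
  have : Finite ↥(chevF4.diagonalSubgroup K ⊓ twistedF4 K (2 ^ m)) :=
    Nat.finite_of_card_ne_zero (by rw [hH]; apply pow_ne_zero; omega)
  have : Finite ↥(Uw hK x) :=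
    Nat.finite_of_card_ne_zero (by rw [card_Uw hK x]; positivity)
  unfold Cell
  infer_instance

theorem card_Cell (hK : Fintype.card K = 2 ^ (2 * m + 1)) (x : DihedralGroup 8) :
    Nat.card (Cell hK x)
      = (2 ^ (2 * m + 1)) ^ 12 * (2 ^ (2 * m + 1) - 1) ^ 2 * (2 ^ (2 * m + 1)) ^ aOf x := by
  unfold Cell
  rw [Nat.card_prod, Nat.card_prod, card_pos_twisted hK, card_diag_twisted hK, card_Uw hK x]
  ring

/-- the order of a subgroup which is the union of `B` and one more double coset -/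
theorem card_two_cells (hK : Fintype.card K = 2 ^ (2 * m + 1)) (s : DihedralGroup 8) (hs : s ≠ 1)
    (Q : Subgroup ↥(twistedF4 K (2 ^ m)))
    (hQ : ∀ g, g ∈ Q ↔ g ∈ (bnF4 hK).B ∨ g ∈ C (bnF4 hK) (psi hK s)) :
    Nat.card Q = (2 ^ (2 * m + 1)) ^ 12 * (2 ^ (2 * m + 1) - 1) ^ 2 *
      (1 + (2 ^ (2 * m + 1)) ^ aOf s) := by
  have hB : ∀ g, g ∈ (bnF4 hK).B ↔ g ∈ C (bnF4 hK) (psi hK 1) := by
    intro g
    rw [map_one, C_one]
    rfl
  let f : Cell hK 1 ⊕ Cell hK s → Q := fun c =>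
    match c with
    | Sum.inl c => ⟨cellMap hK ⟨1, c⟩, (hQ _).2 (Or.inl ((hB _).2 (cellMap_mem_C hK 1 c)))⟩
    | Sum.inr c => ⟨cellMap hK ⟨s, c⟩, (hQ _).2 (Or.inr (cellMap_mem_C hK s c))⟩
  have hinj : Function.Injective f := by
    rintro (c | c) (c' | c') h
    · have h1 : cellMap hK ⟨1, c⟩ = cellMap hK ⟨1, c'⟩ := congrArg Subtype.val h
      have h2 := (cellMap_bijective hK).1 h1
      rw [Sigma.mk.inj_iff] at h2
      rw [eq_of_heq h2.2]
    · have h1 : cellMap hK ⟨1, c⟩ = cellMap hK ⟨s, c'⟩ := congrArg Subtype.val h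
      have h2 := (cellMap_bijective hK).1 h1
      rw [Sigma.mk.inj_iff] at h2
      exact absurd h2.1.symm hs
    · have h1 : cellMap hK ⟨s, c⟩ = cellMap hK ⟨1, c'⟩ := congrArg Subtype.val h
      have h2 := (cellMap_bijective hK).1 h1
      rw [Sigma.mk.inj_iff] at h2
      exact absurd h2.1 hs
    · have h1 : cellMap hK ⟨s, c⟩ = cellMap hK ⟨s, c'⟩ := congrArg Subtype.val h
      have h2 := (cellMap_bijective hK).1 h1
      rw [Sigma.mk.inj_iff] at h2
      rw [eq_of_heq h2.2]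
  have hsurj : Function.Surjective f := by
    rintro ⟨y, hy⟩
    obtain ⟨⟨x, c⟩, rfl⟩ := (cellMap_bijective hK).2 y
    have hc := cellMap_mem_C hK x c
    rcases (hQ _).1 hy with h | h
    · have hx : x = 1 := psi_injective hK (bruhat (bnF4 hK) (C_inj_of_inter (bnF4 hK) hc ((hB _).1 h)))
      subst hx
      exact ⟨Sum.inl c, rfl⟩
    · have hx : x = s := psi_injective hK (bruhat (bnF4 hK) (C_inj_of_inter (bnF4 hK) hc h))
      subst hx
      exact ⟨Sum.inr c, rfl⟩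
  have := finite_Cell hK 1
  have := finite_Cell hK s
  rw [← Nat.card_congr (Equiv.ofBijective f ⟨hinj, hsurj⟩), Nat.card_sum, card_Cell, card_Cell]
  have h1 : aOf 1 = 0 := by decide +kernel
  rw [h1, pow_zero]
  ring

theorem aOf_sr0 : aOf (DihedralGroup.sr 0) = 1 := by decide +kernel

theorem aOf_sr1 : aOf (DihedralGroup.sr 1) = 2 := by decide +kernel

theorem sr0_ne_one : (DihedralGroup.sr 0 : DihedralGroup 8) ≠ 1 := by decide +kernel

theorem sr1_ne_one : (DihedralGroup.sr 1 : DihedralGroup 8) ≠ 1 := by decide +kernel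

/-- the first minimal parabolic subgroup -/
noncomputable def Qa (hK : Fintype.card K = 2 ^ (2 * m + 1)) : Subgroup ↥(twistedF4 K (2 ^ m)) :=
  (bnF4 hK).parabolic {sA K m}

/-- the second minimal parabolic subgroup -/
noncomputable def Qb (hK : Fintype.card K = 2 ^ (2 * m + 1)) : Subgroup ↥(twistedF4 K (2 ^ m)) :=
  (bnF4 hK).parabolic {sB K m}

theorem mem_Qa (hK : Fintype.card K = 2 ^ (2 * m + 1)) (g : ↥(twistedF4 K (2 ^ m))) :
    g ∈ Qa hK ↔ g ∈ (bnF4 hK).B ∨ g ∈ C (bnF4 hK) (psi hK (DihedralGroup.sr 0)) := by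
  unfold Qa
  rw [mem_parabolic_singleton (bnF4 hK) (by rw [bnF4_S]; exact Set.mem_insert _ _)
    ⟨sA K m, sA_mem_N hK⟩ rfl, psi_sr0 hK _ rfl]

theorem mem_Qb (hK : Fintype.card K = 2 ^ (2 * m + 1)) (g : ↥(twistedF4 K (2 ^ m))) :
    g ∈ Qb hK ↔ g ∈ (bnF4 hK).B ∨ g ∈ C (bnF4 hK) (psi hK (DihedralGroup.sr 1)) := by
  unfold Qb
  rw [mem_parabolic_singleton (bnF4 hK) (by rw [bnF4_S]; exact Set.mem_insert_of_mem _ rfl)
    ⟨sB K m, sB_mem_N hK⟩ rfl, psi_sr1 hK _ rfl]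

theorem card_Qa (hK : Fintype.card K = 2 ^ (2 * m + 1)) :
    Nat.card (Qa hK) = (2 ^ (2 * m + 1)) ^ 12 * (2 ^ (2 * m + 1) - 1) ^ 2 *
      (1 + 2 ^ (2 * m + 1)) := by
  rw [card_two_cells hK _ sr0_ne_one (Qa hK) (mem_Qa hK), aOf_sr0, pow_one]

theorem card_Qb (hK : Fintype.card K = 2 ^ (2 * m + 1)) :
    Nat.card (Qb hK) = (2 ^ (2 * m + 1)) ^ 12 * (2 ^ (2 * m + 1) - 1) ^ 2 *
      (1 + (2 ^ (2 * m + 1)) ^ 2) := by
  rw [card_two_cells hK _ sr1_ne_one (Qb hK) (mem_Qb hK), aOf_sr1]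

end

/-- the primes dividing the orders of the minimal parabolic subgroups -/
theorem prime_dvd_of_dvd_card (q r : ℕ) (hq : 1 ≤ q) (hr : r.Prime)
    (h : r ∣ q ^ 12 * (q - 1) ^ 2 * (1 + q) ∨ r ∣ q ^ 12 * (q - 1) ^ 2 * (1 + q ^ 2)) :
    r ∣ q * (q ^ 4 - 1) := by
  obtain ⟨x, rfl⟩ : ∃ x, q = x + 1 := ⟨q - 1, by omega⟩
  rw [Nat.add_sub_cancel] at h
  have e4 : (x + 1) ^ 4 - 1 = x * (1 + (x + 1)) * (1 + (x + 1) ^ 2) := by
    have : (x + 1) ^ 4 = x * (1 + (x + 1)) * (1 + (x + 1) ^ 2) + 1 := by ring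
    rw [this, Nat.add_sub_cancel]
  rw [e4]
  rcases h with h | h
  · rcases (Nat.Prime.dvd_mul hr).1 h with h | h
    · rcases (Nat.Prime.dvd_mul hr).1 h with h | h
      · exact Dvd.dvd.mul_right (hr.dvd_of_dvd_pow h) _
      · exact Dvd.dvd.mul_left (Dvd.dvd.mul_right (Dvd.dvd.mul_right (hr.dvd_of_dvd_pow h) _) _) _
    · exact Dvd.dvd.mul_left (Dvd.dvd.mul_right (Dvd.dvd.mul_left h _) _) _
  · rcases (Nat.Prime.dvd_mul hr).1 h with h | h
    · rcases (Nat.Prime.dvd_mul hr).1 h with h | h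
      · exact Dvd.dvd.mul_right (hr.dvd_of_dvd_pow h) _
      · exact Dvd.dvd.mul_left (Dvd.dvd.mul_right (Dvd.dvd.mul_right (hr.dvd_of_dvd_pow h) _) _) _
    · exact Dvd.dvd.mul_left (Dvd.dvd.mul_left h _) _

end Cfsg.Agent.Lib.Helper8.BT2
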