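import Cfsg.Agent.Lib.Helper8.BT2.Euler
import Cfsg.Agent.Lib.Helper8.BT2.Borel
import Cfsg.Agent.Lib.Helper8.BT2.Orders
import Mathlib

/-!
# Elements of the large Ree group commuting with an involution (helper8)

An involution `a` of `²F₄(q)` is conjugate into `U¹`, a Sylow 2-subgroup.  An element `b` of prime
order `r` commuting with it normalises `R = ⟨a⟩ ≤ U¹`, and `R` fixes no chamber opposite to the
standard one; by the fixed point count of `Euler.lean`, `b` lies in a conjugate of a minimal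
parabolic subgroup, so `r` divides `q (q⁴ - 1)`.
-/

set_option autoImplicit false
set_option maxRecDepth 100000

namespace Cfsg.Agent.Lib.Helper8.BT2

open Cfsg Cfsg.Lie Cfsg.Agent.Lib.Helper5.Chev Cfsg.Agent.Lib.Helper5.GA Cfsg.Agent.Lib.Helper5.Tw
open Cfsg.Agent.Lib.Helper5.F4W Cfsg.Agent.Lib.Helper8.F4T Cfsg.Agent.Lib.Helper5.BN
open scoped Pointwise

theorem mem_smul_sylow' {G : Type*} [Group G] {p : ℕ} (P : Sylow p G) (g b : G) :
    b ∈ (g • P : Sylow p G) ↔ g⁻¹ * b * g ∈ P := by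
  change b ∈ MulAut.conj g • (P : Subgroup G) ↔ _
  rw [Subgroup.mem_pointwise_smul_iff_inv_smul_mem]
  simp only [MulAut.smul_def, MulAut.conj_inv_apply]
  exact Iff.rfl

/-- the exponent of `2` in `2 ^ k * c` with `c` odd -/
theorem factorization_two_pow_mul (k c : ℕ) (hc : Odd c) :
    (2 ^ k * c).factorization 2 = k := by
  have hc0 : c ≠ 0 := fun h => by
    rw [h] at hc
    exact absurd hc (by decide)
  rw [Nat.factorization_mul (pow_ne_zero _ (by norm_num)) hc0, Finsupp.add_apply,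
    Nat.Prime.factorization_pow Nat.prime_two, Finsupp.single_eq_same,
    Nat.factorization_eq_zero_of_not_dvd hc.not_two_dvd_nat, add_zero]

/-- the cofactor of `q ^ 12` in the order of the large Ree group is odd -/
theorem odd_cofactor (q : ℕ) (hq : Even q) (hq1 : 1 ≤ q) :
    Odd ((q - 1) * (q ^ 3 + 1) * (q ^ 4 - 1) * (q ^ 6 + 1)) := by
  have h1 : Odd (q - 1) := Nat.Even.sub_odd hq1 hq odd_one
  have h3 : Odd (q ^ 3 + 1) := (Nat.even_pow.2 ⟨hq, by norm_num⟩).add_one
  have h4 : Odd (q ^ 4 - 1) :=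
    Nat.Even.sub_odd (Nat.one_le_pow _ _ hq1) (Nat.even_pow.2 ⟨hq, by norm_num⟩) odd_one
  have h6 : Odd (q ^ 6 + 1) := (Nat.even_pow.2 ⟨hq, by norm_num⟩).add_one
  exact ((h1.mul h3).mul h4).mul h6

section

variable {K : Type*} [Field K] [Fintype K] [CharP K 2] {m : ℕ}

/-- `U¹`, as a subgroup of the twisted group -/
noncomputable def U1G (K : Type*) [Field K] (m : ℕ) : Subgroup ↥(twistedF4 K (2 ^ m)) :=
  (chevF4.posUnipotent K ⊓ twistedF4 K (2 ^ m)).subgroupOf (twistedF4 K (2 ^ m))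

omit [Fintype K] [CharP K 2] in
theorem mem_U1G (x : ↥(twistedF4 K (2 ^ m))) :
    x ∈ U1G K m ↔ (x : GL chevF4.Idx K) ∈ chevF4.posUnipotent K := by
  show (x : GL chevF4.Idx K) ∈ chevF4.posUnipotent K ⊓ twistedF4 K (2 ^ m) ↔ _
  exact ⟨fun h => h.1, fun h => ⟨h, x.2⟩⟩

theorem card_U1G (hK : Fintype.card K = 2 ^ (2 * m + 1)) :
    Nat.card (U1G K m) = 2 ^ ((2 * m + 1) * 12) := by
  unfold U1G
  rw [Nat.card_congr (Subgroup.subgroupOfEquivOfLe inf_le_right).toEquiv, card_pos_twisted hK,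
    ← pow_mul]

theorem card_U1G_eq (hK : Fintype.card K = 2 ^ (2 * m + 1)) :
    Nat.card (U1G K m) = 2 ^ (Nat.card ↥(twistedF4 K (2 ^ m))).factorization 2 := by
  rw [card_U1G hK, card_twisted hK]
  congr 1
  have e : (2 ^ (2 * m + 1)) ^ 12 * (2 ^ (2 * m + 1) - 1) * ((2 ^ (2 * m + 1)) ^ 3 + 1) *
        ((2 ^ (2 * m + 1)) ^ 4 - 1) * ((2 ^ (2 * m + 1)) ^ 6 + 1)
      = 2 ^ ((2 * m + 1) * 12) * ((2 ^ (2 * m + 1) - 1) * ((2 ^ (2 * m + 1)) ^ 3 + 1) *
        ((2 ^ (2 * m + 1)) ^ 4 - 1) * ((2 ^ (2 * m + 1)) ^ 6 + 1)) := by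
    rw [← pow_mul]
    ring
  rw [e, factorization_two_pow_mul]
  exact odd_cofactor _ (Nat.even_pow.2 ⟨even_two, by omega⟩) Nat.one_le_two_pow

/-- the primes dividing the order of an element commuting with an involution -/
theorem prime_dvd_of_commute (hK : Fintype.card K = 2 ^ (2 * m + 1))
    (a b : ↥(twistedF4 K (2 ^ m))) (ha : orderOf a = 2) (hab : Commute a b)
    (r : ℕ) (hr : r.Prime) (hrb : r ∣ orderOf b) :
    r ∣ 2 ^ (2 * m + 1) * ((2 ^ (2 * m + 1)) ^ 4 - 1) := by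
  classical
  have : Fact r.Prime := ⟨hr⟩
  have : Fact (Nat.Prime 2) := ⟨Nat.prime_two⟩
  -- conjugate `a` into `U¹`
  let S : Sylow 2 ↥(twistedF4 K (2 ^ m)) := Sylow.ofCard (U1G K m) (card_U1G_eq hK)
  have hpa : IsPGroup 2 (Subgroup.zpowers a) := by
    apply IsPGroup.of_card (n := 1)
    rw [Nat.card_zpowers, ha, pow_one]
  obtain ⟨S', hS'⟩ := hpa.exists_le_sylow
  obtain ⟨g, hg⟩ := MulAction.exists_smul_eq ↥(twistedF4 K (2 ^ m)) S' S
  have haS : g * a * g⁻¹ ∈ U1G K m := by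
    have h1 : g * a * g⁻¹ ∈ (g • S' : Sylow 2 ↥(twistedF4 K (2 ^ m))) := by
      rw [mem_smul_sylow']
      have : g⁻¹ * (g * a * g⁻¹) * g = a := by group
      rw [this]
      exact hS' (Subgroup.mem_zpowers a)
    rw [hg] at h1
    exact h1
  -- the element of order `r`
  have hb0 : orderOf b ≠ 0 := (orderOf_pos b).ne'
  have hb1 : orderOf (b ^ (orderOf b / r)) = r := orderOf_pow_orderOf_div hb0 hrb
  have hconj : ∀ g x : ↥(twistedF4 K (2 ^ m)), orderOf (g * x * g⁻¹) = orderOf x := fun g x => by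
    have := orderOf_injective (MulAut.conj g).toMonoidHom (MulAut.conj g).injective x
    simpa using this
  set a' := g * a * g⁻¹ with ha'
  set b' := g * b ^ (orderOf b / r) * g⁻¹ with hb'
  have hoa : orderOf a' = 2 := by rw [ha', hconj, ha]
  have hob : orderOf b' = r := by rw [hb', hconj, hb1]
  have hcomm : Commute b' a' := by
    have h1 : Commute (b ^ (orderOf b / r)) a := (hab.pow_right _).symm
    show b' * a' = a' * b'
    rw [ha', hb']
    have h2 : b ^ (orderOf b / r) * a = a * b ^ (orderOf b / r) := h1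
    calc g * b ^ (orderOf b / r) * g⁻¹ * (g * a * g⁻¹)
        = g * (b ^ (orderOf b / r) * a) * g⁻¹ := by group
      _ = g * (a * b ^ (orderOf b / r)) * g⁻¹ := by rw [h2]
      _ = g * a * g⁻¹ * (g * b ^ (orderOf b / r) * g⁻¹) := by group
  have ha1 : a' ≠ 1 := by
    intro h
    rw [h, orderOf_one] at hoa
    omega
  -- the subgroup `R`
  have hRU : ∀ x ∈ Subgroup.zpowers a', (x : GL chevF4.Idx K) ∈ chevF4.posUnipotent K := by
    intro x hx
    have : Subgroup.zpowers a' ≤ U1G K m := (Subgroup.zpowers_le).2 haS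
    exact (mem_U1G x).1 (this hx)
  have hRB : Subgroup.zpowers a' ≤ (bnF4 hK).B := by
    intro x hx
    rw [mem_bnB]
    exact pos_le_borel' (hRU x hx)
  have hR1 : Subgroup.zpowers a' ≠ ⊥ := by
    intro h
    rw [Subgroup.zpowers_eq_bot] at h
    exact ha1 h
  have hcz : ∀ x ∈ Subgroup.zpowers a', b' * x * b'⁻¹ = x := by
    intro x hx
    obtain ⟨k, rfl⟩ := Subgroup.mem_zpowers_iff.1 hx
    have : b' * a' ^ k = a' ^ k * b' := hcomm.zpow_right k
    rw [this, mul_inv_cancel_right]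
  have hbR : b' ∈ Subgroup.normalizer (Subgroup.zpowers a' : Set ↥(twistedF4 K (2 ^ m))) := by
    rw [Subgroup.mem_normalizer_iff]
    intro x
    constructor
    · intro hx
      rw [hcz x hx]
      exact hx
    · intro hx
      have h1 := hcz _ hx
      have h2 : x = b' * x * b'⁻¹ := by
        calc x = b'⁻¹ * (b' * x * b'⁻¹) * b' := by group
          _ = b'⁻¹ * (b' * (b' * x * b'⁻¹) * b'⁻¹) * b' := by rw [h1]
          _ = b' * x * b'⁻¹ := by group
      rw [h2]
      exact hx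
  obtain ⟨t, ht⟩ := exists_conj_mem (bnF4 hK) (psi_sr0_mem hK) (psi_sr1_mem hK) (Sbar_cases hK)
    (Qa hK) (Qb hK) (mem_Qa hK) (mem_Qb hK) (Subgroup.zpowers a') hRB
    (fun g w hg hfix => asc_of_fix hK _ hRU hR1 g w hg hfix) b' r hob hbR
  have hot : orderOf (t⁻¹ * b' * t) = r := by
    have := hconj t⁻¹ b'
    rw [inv_inv] at this
    rw [this, hob]
  apply prime_dvd_of_dvd_card _ r Nat.one_le_two_pow hr
  rcases ht with ht | ht
  · left
    rw [← card_Qa hK, ← hot]
    exact Subgroup.orderOf_dvd_natCard _ ht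
  · right
    rw [← card_Qb hK, ← hot]
    exact Subgroup.orderOf_dvd_natCard _ ht

end

end Cfsg.Agent.Lib.Helper8.BT2
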