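import Cfsg.Agent.Lib.Helper5.F4W.BN
import Cfsg.Agent.Lib.Helper5.F4W.Core
import Cfsg.Agent.Lib.Helper5.Chev.TriAll
import Cfsg.Agent.Lib.Helper5.Chev.MonoB
import Cfsg.Agent.Lib.Helper8.BT2.Dih
import Mathlib

/-!
# The Weyl group of the (B,N)-pair of the large Ree group (helper8)

The Weyl group `N¹ / H¹` of helper5's (B,N)-pair of `²F₄(q)` is identified with the dihedral group
of order 16, the distinguished generators corresponding to `sr 0` and `sr 1`.
-/

set_option autoImplicit false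
set_option maxRecDepth 100000

namespace Cfsg.Agent.Lib.Helper8.BT2

open Cfsg Cfsg.Lie Cfsg.Agent.Lib.Helper5.Chev Cfsg.Agent.Lib.Helper5.GA Cfsg.Agent.Lib.Helper5.Tw
open Cfsg.Agent.Lib.Helper5.F4W Cfsg.Agent.Lib.Helper8.F4T Cfsg.Agent.Lib.Helper5.BN

section

variable {K : Type*} [Field K] [Fintype K] [CharP K 2] {m : ℕ}

/-- the (B,N)-pair of the large Ree group -/
noncomputable def bnF4 (hK : Fintype.card K = 2 ^ (2 * m + 1)) :
    BNPair ↥(twistedF4 K (2 ^ m)) := Classical.choose (bnPair hK)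

theorem bnF4_B (hK : Fintype.card K = 2 ^ (2 * m + 1)) : (bnF4 hK).B = B1 K m :=
  (Classical.choose_spec (bnPair hK)).1

theorem bnF4_N (hK : Fintype.card K = 2 ^ (2 * m + 1)) : (bnF4 hK).N = N1 K m :=
  (Classical.choose_spec (bnPair hK)).2.1

theorem bnF4_S (hK : Fintype.card K = 2 ^ (2 * m + 1)) : (bnF4 hK).S = {sA K m, sB K m} :=
  (Classical.choose_spec (bnPair hK)).2.2

theorem mem_bnB (hK : Fintype.card K = 2 ^ (2 * m + 1)) (y : ↥(twistedF4 K (2 ^ m))) :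
    y ∈ (bnF4 hK).B ↔ (y : GL chevF4.Idx K) ∈ chevF4.borelSubgroup K := by
  rw [bnF4_B, mem_B1]

theorem mem_bnN (hK : Fintype.card K = 2 ^ (2 * m + 1)) (y : ↥(twistedF4 K (2 ^ m))) :
    y ∈ (bnF4 hK).N ↔ (y : GL chevF4.Idx K) ∈ chevF4.monomialSubgroup K := by
  rw [bnF4_N, mem_N1]

/-- the representatives of the sixteen elements of the Weyl group -/
noncomputable def nN (hK : Fintype.card K = 2 ^ (2 * m + 1)) (x : DihedralGroup 8) :
    ↥(bnF4 hK).N :=
  ⟨⟨nW K (wd x), nW_wd_mem_twisted x⟩, (mem_bnN hK _).2 (nW_mem_mono _)⟩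

theorem nN_val (hK : Fintype.card K = 2 ^ (2 * m + 1)) (x : DihedralGroup 8) :
    (((nN hK x : ↥(bnF4 hK).N) : ↥(twistedF4 K (2 ^ m))) : GL chevF4.Idx K) = nW K (wd x) := rfl

omit [Fintype K] [CharP K 2] in
theorem diag_le_borel : chevF4.diagonalSubgroup K ≤ chevF4.borelSubgroup K := le_sup_right

/-- two elements of `N¹` in the same coset of `H` have the same image in the Weyl group -/
theorem proj_eq_of_diag (hK : Fintype.card K = 2 ^ (2 * m + 1)) (n n' : ↥(bnF4 hK).N)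
    (h : ((n : ↥(twistedF4 K (2 ^ m))) : GL chevF4.Idx K)⁻¹ *
      ((n' : ↥(twistedF4 K (2 ^ m))) : GL chevF4.Idx K) ∈ chevF4.diagonalSubgroup K) :
    proj (bnF4 hK) n = proj (bnF4 hK) n' := by
  rw [proj_eq_iff, mem_bnB]
  exact diag_le_borel h

theorem diag_of_proj_eq (hK : Fintype.card K = 2 ^ (2 * m + 1)) (n n' : ↥(bnF4 hK).N)
    (h : proj (bnF4 hK) n = proj (bnF4 hK) n') :
    ((n : ↥(twistedF4 K (2 ^ m))) : GL chevF4.Idx K)⁻¹ *
      ((n' : ↥(twistedF4 K (2 ^ m))) : GL chevF4.Idx K) ∈ chevF4.diagonalSubgroup K := by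
  rw [proj_eq_iff, mem_bnB] at h
  rw [← (borel_inf_monomial_all chevF4 hD4).2]
  refine ⟨h, ?_⟩
  exact Subgroup.mul_mem _ (Subgroup.inv_mem _ ((mem_bnN hK _).1 n.2)) ((mem_bnN hK _).1 n'.2)

/-- the identification of the dihedral group of order 16 with the Weyl group -/
noncomputable def psi (hK : Fintype.card K = 2 ^ (2 * m + 1)) :
    DihedralGroup 8 →* W (bnF4 hK) where
  toFun x := proj (bnF4 hK) (nN hK x)
  map_one' := by
    rw [← map_one (proj (bnF4 hK))]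
    apply proj_eq_of_diag
    rw [nN_val, wd_one, nW_nil, inv_one, one_mul]
    exact Subgroup.one_mem _
  map_mul' x y := by
    rw [← map_mul]
    apply proj_eq_of_diag
    obtain ⟨h, hh, e⟩ := coset_mul (K := K) x y 1 1 (Subgroup.one_mem _) (Subgroup.one_mem _)
    rw [mul_one, mul_one] at e
    have e2 : (((nN hK x * nN hK y : ↥(bnF4 hK).N) : ↥(twistedF4 K (2 ^ m))) : GL chevF4.Idx K)
        = nW K (wd x) * nW K (wd y) := rfl
    rw [nN_val, e2, e, inv_mul_cancel_left]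
    exact hh

theorem psi_apply (hK : Fintype.card K = 2 ^ (2 * m + 1)) (x : DihedralGroup 8) :
    psi hK x = proj (bnF4 hK) (nN hK x) := rfl

theorem psi_injective (hK : Fintype.card K = 2 ^ (2 * m + 1)) : Function.Injective (psi hK) := by
  intro x y h
  rw [psi_apply, psi_apply] at h
  have h1 := diag_of_proj_eq hK _ _ h
  rw [nN_val, nN_val] at h1
  refine coset_unique (K := K) x y _ 1 h1 (Subgroup.one_mem _) ?_
  rw [mul_one, mul_inv_cancel_left]

theorem psi_surjective (hK : Fintype.card K = 2 ^ (2 * m + 1)) :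
    Function.Surjective (psi hK) := by
  intro w
  obtain ⟨n, rfl⟩ := proj_surjective (bnF4 hK) w
  have hn := (mem_bnN hK _).1 n.2
  obtain ⟨g, h, hh, e⟩ := mono_fix_coset hK _ hn (twisted_le_fixR hK (n : ↥(twistedF4 K (2 ^ m))).2)
  refine ⟨g, ?_⟩
  rw [psi_apply]
  apply proj_eq_of_diag
  rw [nN_val, e, inv_mul_cancel_left]
  exact hh

/-- the first distinguished generator -/
theorem psi_sr0 (hK : Fintype.card K = 2 ^ (2 * m + 1)) (n : ↥(bnF4 hK).N)
    (hn : (n : ↥(twistedF4 K (2 ^ m))) = sA K m) :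
    proj (bnF4 hK) n = psi hK (DihedralGroup.sr 0) := by
  rw [psi_apply]
  apply proj_eq_of_diag
  rw [nN_val, hn, sA_val, wd_A, inv_mul_cancel]
  exact Subgroup.one_mem _

/-- the second distinguished generator -/
theorem psi_sr1 (hK : Fintype.card K = 2 ^ (2 * m + 1)) (n : ↥(bnF4 hK).N)
    (hn : (n : ↥(twistedF4 K (2 ^ m))) = sB K m) :
    proj (bnF4 hK) n = psi hK (DihedralGroup.sr 1) := by
  rw [psi_apply]
  apply proj_eq_of_diag
  rw [nN_val, hn, sB_val]
  exact coset_of_act_eq (K := K) wB (wd (DihedralGroup.sr 1)) isWord_wB (isWord_wd _)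
    (act_eq_of_simple isWord_wB (isWord_wd _) (fun k hk => (wd_B k hk).symm))

theorem sA_mem_N (hK : Fintype.card K = 2 ^ (2 * m + 1)) : sA K m ∈ (bnF4 hK).N :=
  (mem_bnN hK _).2 (by rw [sA_val]; exact nW_mem_mono _)

theorem sB_mem_N (hK : Fintype.card K = 2 ^ (2 * m + 1)) : sB K m ∈ (bnF4 hK).N :=
  (mem_bnN hK _).2 (by rw [sB_val]; exact nW_mem_mono _)

theorem psi_sr0_mem (hK : Fintype.card K = 2 ^ (2 * m + 1)) :
    psi hK (DihedralGroup.sr 0) ∈ Sbar (bnF4 hK) :=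
  ⟨⟨sA K m, sA_mem_N hK⟩, by rw [bnF4_S]; exact Set.mem_insert _ _, psi_sr0 hK _ rfl⟩

theorem psi_sr1_mem (hK : Fintype.card K = 2 ^ (2 * m + 1)) :
    psi hK (DihedralGroup.sr 1) ∈ Sbar (bnF4 hK) :=
  ⟨⟨sB K m, sB_mem_N hK⟩, by rw [bnF4_S]; exact Set.mem_insert_of_mem _ rfl, psi_sr1 hK _ rfl⟩

theorem Sbar_cases (hK : Fintype.card K = 2 ^ (2 * m + 1)) :
    ∀ σ ∈ Sbar (bnF4 hK), σ = psi hK (DihedralGroup.sr 0) ∨ σ = psi hK (DihedralGroup.sr 1) := by
  rintro σ ⟨n, hn, rfl⟩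
  rw [bnF4_S] at hn
  rcases hn with hn | hn
  · exact Or.inl (psi_sr0 hK n hn)
  · exact Or.inr (psi_sr1 hK n hn)

/-- every element of the Weyl group other than the longest one has an ascent on the right -/
theorem exists_asc_F4 (hK : Fintype.card K = 2 ^ (2 * m + 1)) (x : DihedralGroup 8)
    (hx : x ≠ DihedralGroup.r 4) :
    len (bnF4 hK) (psi hK x) < len (bnF4 hK) (psi hK x * psi hK (DihedralGroup.sr 0)) ∨
      len (bnF4 hK) (psi hK x) < len (bnF4 hK) (psi hK x * psi hK (DihedralGroup.sr 1)) :=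
  exists_asc (bnF4 hK) (psi hK) (psi_injective hK) (psi_sr0_mem hK) (psi_sr1_mem hK)
    (Sbar_cases hK) x hx

end

end Cfsg.Agent.Lib.Helper8.BT2
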